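import Mathlib
import Groth.Agent.S6889

/-!
# Fitting ideals of the cokernel of a map of free modules and of its dual
-/

noncomputable section

namespace Groth.Agent.QuotLFX

universe u

variable {R : Type u} [CommRing R]

/-- The ideal of `s`-minors. -/
def minors {n m : ℕ} (A : Matrix (Fin n) (Fin m) R) (s : ℕ) : Ideal R :=
  Ideal.span {d | ∃ (e : Fin s → Fin n) (c : Fin s → Fin m), d = (A.submatrix e c).det}

theorem minors_transpose {n m : ℕ} (A : Matrix (Fin n) (Fin m) R) (s : ℕ) :
    minors A.transpose s = minors A s := by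
  unfold minors
  congr 1
  ext d
  constructor <;> rintro ⟨e, c, rfl⟩ <;> refine ⟨c, e, ?_⟩ <;>
    rw [← Matrix.det_transpose, Matrix.transpose_submatrix] <;> rfl

theorem minors_eq_bot {n m s : ℕ} (A : Matrix (Fin n) (Fin m) R) (h : m < s) : minors A s = ⊥ := by
  rw [minors, Ideal.span_eq_bot]
  rintro _ ⟨e, c, rfl⟩
  obtain ⟨a, b, hne, hab⟩ := Fintype.exists_ne_map_eq_of_card_lt c (by simpa using h)
  exact Matrix.det_zero_of_column_eq hne fun i => by simp [hab]

theorem span_det_mulVec {n m : ℕ} (A : Matrix (Fin n) (Fin m) R) (s : ℕ) :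
    Ideal.span {d : R | ∃ (z : Fin s → (Fin n → R)) (e : Fin s → Fin n),
      (∀ b, z b ∈ Set.range A.mulVec) ∧ d = (Matrix.of fun a b => z b (e a)).det} = minors A s := by
  classical
  refine le_antisymm (Ideal.span_le.mpr ?_) (Ideal.span_le.mpr ?_)
  · rintro _ ⟨z, e, hz, rfl⟩
    choose v hv using hz
    rw [← Matrix.det_transpose]
    have hrow : (Matrix.of fun a b => z b (e a)).transpose =
        Matrix.of fun b => ∑ l, v b l • fun a => A (e a) l := by
      ext b a
      simp [← hv, Matrix.mulVec, dotProduct, Finset.sum_apply, mul_comm]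
    rw [hrow]
    change Matrix.detRowAlternating (fun b => ∑ l, v b l • fun a => A (e a) l) ∈ minors A s
    rw [← AlternatingMap.coe_multilinearMap, MultilinearMap.map_sum]
    refine Submodule.sum_mem _ fun f _ => ?_
    rw [MultilinearMap.map_smul_univ]
    refine Submodule.smul_mem _ _ (Ideal.subset_span ⟨e, f, ?_⟩)
    rw [← Matrix.det_transpose]
    rfl
  · rintro _ ⟨e, c, rfl⟩
    refine Ideal.subset_span ⟨fun b i => A i (c b), e, fun b => ⟨Pi.single (c b) 1, ?_⟩, rfl⟩
    ext i; simp

theorem fitting_coker {n m : ℕ} (f : (Fin m → R) →ₗ[R] (Fin n → R)) (k : ℕ) :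
    Fitt.ideal R ((Fin n → R) ⧸ LinearMap.range f) k = minors (LinearMap.toMatrix' f) (n - k) := by
  classical
  let x : Fin n → (Fin n → R) ⧸ LinearMap.range f := fun i =>
    Submodule.Quotient.mk (Pi.single i 1)
  have hsum : ∀ z : Fin n → R, ∑ i, z i • x i = Submodule.Quotient.mk z := by
    intro z
    have hz : z = ∑ i, z i • (Pi.single i 1 : Fin n → R) := by
      ext j; simp [Finset.sum_apply, Pi.single_apply]
    conv_rhs => rw [hz]
    simp only [x, ← Submodule.mkQ_apply, map_sum, map_smul]
  have hx : Submodule.span R (Set.range x) = ⊤ := by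
    refine eq_top_iff.mpr fun y _ => ?_
    obtain ⟨z, rfl⟩ := Submodule.Quotient.mk_surjective _ y
    rw [← hsum]
    exact Submodule.sum_mem _ fun i _ => Submodule.smul_mem _ _ (Submodule.subset_span ⟨i, rfl⟩)
  rw [S6889.result x hx k, ← span_det_mulVec]
  congr 1
  simp only [hsum, Submodule.Quotient.mk_eq_zero, LinearMap.mem_range, Set.mem_range,
    LinearMap.toMatrix'_mulVec]

theorem fitting_coker_dual (R : Type u) [CommRing R] (m n : ℕ)
    (σ : (Fin m → R) →ₗ[R] (Fin n → R)) (hσ : Function.Injective σ) :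
    (∀ j : ℕ, Fitt.ideal R ((Fin n → R) ⧸ LinearMap.range σ) (n - m + j) =
        Fitt.ideal R (Module.Dual R (Fin m → R) ⧸ LinearMap.range σ.dualMap) j) ∧
      ∀ i : ℕ, i < n - m → Fitt.ideal R ((Fin n → R) ⧸ LinearMap.range σ) i = ⊥ := by
  rcases subsingleton_or_nontrivial R with hR | hR
  · exact ⟨fun j => Subsingleton.elim _ _, fun i _ => Subsingleton.elim _ _⟩
  have hmn : m ≤ n := by
    simpa using LinearMap.finrank_le_finrank_of_injective hσ
  classical
  let A := LinearMap.toMatrix' σ
  refine ⟨fun j => ?_, fun i hi => ?_⟩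
  · let x : Fin m → Module.Dual R (Fin m → R) ⧸ LinearMap.range σ.dualMap := fun i =>
      Submodule.Quotient.mk (LinearMap.proj i)
    have hspan : ∀ ψ : Module.Dual R (Fin m → R), ψ = ∑ i, ψ (Pi.single i 1) •
        (LinearMap.proj i : Module.Dual R (Fin m → R)) := fun ψ =>
      (Pi.basisFun R (Fin m)).ext fun l => by simp [LinearMap.sum_apply, Pi.single_apply]
    have hsum : ∀ z : Fin m → R, ∑ i, z i • x i =
        Submodule.Quotient.mk (∑ i, z i • (LinearMap.proj i : Module.Dual R (Fin m → R))) := by
      intro z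
      simp only [x, ← Submodule.mkQ_apply, map_sum, map_smul]
    have hx : Submodule.span R (Set.range x) = ⊤ := by
      refine eq_top_iff.mpr fun y _ => ?_
      obtain ⟨ψ, rfl⟩ := Submodule.Quotient.mk_surjective _ y
      rw [hspan ψ, ← hsum]
      exact Submodule.sum_mem _ fun i _ => Submodule.smul_mem _ _ (Submodule.subset_span ⟨i, rfl⟩)
    rw [fitting_coker, S6889.result x hx j, show n - (n - m + j) = m - j by omega,
      ← minors_transpose, ← span_det_mulVec]
    congr 1
    have hiff : ∀ z : Fin m → R,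
        (∑ i, z i • x i = 0) ↔ z ∈ Set.range (LinearMap.toMatrix' σ).transpose.mulVec := by
      intro z
      rw [hsum, Submodule.Quotient.mk_eq_zero, LinearMap.mem_range, Set.mem_range]
      have key : ∀ (ψ : Module.Dual R (Fin n → R)) (l : Fin m),
          σ.dualMap ψ (Pi.single l 1) =
            (LinearMap.toMatrix' σ).transpose.mulVec (fun i => ψ (Pi.single i 1)) l := by
        intro ψ l
        rw [LinearMap.dualMap_apply]
        conv_lhs => rw [show σ (Pi.single l 1) = ∑ i, σ (Pi.single l 1) i • Pi.single i 1 from by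
          ext a; simp [Finset.sum_apply, Pi.single_apply]]
        simp [Matrix.mulVec, dotProduct, LinearMap.toMatrix'_apply]
      constructor
      · rintro ⟨ψ, hψ⟩
        refine ⟨fun i => ψ (Pi.single i 1), funext fun l => ?_⟩
        rw [← key, hψ]
        simp [LinearMap.sum_apply, Pi.single_apply]
      · rintro ⟨v, rfl⟩
        refine ⟨∑ i, v i • LinearMap.proj i, (Pi.basisFun R (Fin m)).ext fun l => ?_⟩
        rw [Pi.basisFun_apply, key]
        simp [LinearMap.sum_apply, Pi.single_apply]
    simp only [hiff]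
  · rw [fitting_coker]
    exact minors_eq_bot _ (by omega)

end Groth.Agent.QuotLFX
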